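import Mathlib
import Cfsg.Agent.H613.KS.Defs
import Cfsg.Agent.H731.KKL.Alt

/-!
# S4577, row `A_n`: no configuration in the alternating groups (helper600)

`N₀` = the even permutations which act on every `D`-orbit as an element of `D`; it is a normal 2-subgroup of `C(D)`,
hence `N₀ ≤ D` and `x` commutes with `N₀`. It follows that `x` fixes every point moved by `D`. At least six points are
moved by `D`, so that `C(x)` contains an even permutation of type `4 · 2`.
-/

set_option autoImplicit false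
set_option linter.unusedSectionVars false
set_option linter.style.haveILetI false

open Equiv Equiv.Perm Cfsg Cfsg.Agent.H613.KS

namespace Cfsg.Agent.H600.KS

variable {n : ℕ}

theorem aiv {α : Type*} (f : Perm α) (z : α) : f (f⁻¹ z) = z := by
  rw [← Perm.mul_apply, mul_inv_cancel, Perm.one_apply]

theorem iav {α : Type*} (f : Perm α) (z : α) : f⁻¹ (f z) = z := by
  rw [← Perm.mul_apply, inv_mul_cancel, Perm.one_apply]

/-- the even permutations acting on every `D`-orbit as an element of `D` -/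
def N0 (D : Subgroup (alternatingGroup (Fin n))) : Subgroup (alternatingGroup (Fin n)) where
  carrier := {g | ∀ z, ∃ d ∈ D, ∀ e ∈ D, (g : Perm (Fin n)) ((e : Perm (Fin n)) z) = (d : Perm (Fin n)) ((e : Perm (Fin n)) z)}
  one_mem' := fun z => ⟨1, D.one_mem, fun _ _ => rfl⟩
  mul_mem' := by
    intro g h hg hh z
    obtain ⟨d, hd, h1⟩ := hh z
    obtain ⟨c, hc, h2⟩ := hg z
    refine ⟨c * d, D.mul_mem hc hd, fun e he => ?_⟩
    have h3 := h2 (d * e) (D.mul_mem hd he)
    have h4 := h1 e he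
    simp only [Subgroup.coe_mul, Perm.mul_apply] at h3 h4 ⊢
    rw [h4, h3]
  inv_mem' := by
    intro g hg z
    obtain ⟨d, hd, h1⟩ := hg z
    refine ⟨d⁻¹, D.inv_mem hd, fun e he => ?_⟩
    have h2 := h1 (d⁻¹ * e) (D.mul_mem (D.inv_mem hd) he)
    simp only [Subgroup.coe_mul, Subgroup.coe_inv, Perm.mul_apply] at h2 ⊢
    rw [aiv] at h2
    have h3 := congrArg (fun w => (g : Perm (Fin n))⁻¹ w) h2
    simp only [iav] at h3
    exact h3.symm

theorem mem_N0 {D : Subgroup (alternatingGroup (Fin n))} {g : alternatingGroup (Fin n)} : g ∈ N0 D ↔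
    ∀ z, ∃ d ∈ D, ∀ e ∈ D, (g : Perm (Fin n)) ((e : Perm (Fin n)) z) = (d : Perm (Fin n)) ((e : Perm (Fin n)) z) :=
  Iff.rfl

/-- six fixed points of `x` give an element of order four in `C(x)` -/
theorem exists_four (x : alternatingGroup (Fin n)) (z : Fin 6 → Fin n) (hz : ∀ i j, i ≠ j → z i ≠ z j)
    (hzX : ∀ i, (x : Perm (Fin n)) (z i) = z i) :
    ∃ γ : alternatingGroup (Fin n), γ * x = x * γ ∧ γ ^ 4 = 1 ∧ γ * γ ≠ 1 := by
  set X : Perm (Fin n) := (x : Perm (Fin n)) with hX
  have hsw : ∀ i j, swap (z i) (z j) * X = X * swap (z i) (z j) := by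
    intro i j
    have h1 := Equiv.swap_mul_eq_mul_swap X (z i) (z j)
    have h2 : X⁻¹ (z i) = z i := by rw [Perm.inv_eq_iff_eq, hzX]
    have h3 : X⁻¹ (z j) = z j := by rw [Perm.inv_eq_iff_eq, hzX]
    rw [h2, h3] at h1
    exact h1
  let c : Perm (Fin n) := swap (z 0) (z 1) * (swap (z 1) (z 2) * (swap (z 2) (z 3) * swap (z 4) (z 5)))
  have hcX : c * X = X * c := by
    have h1 : Commute c X := Commute.mul_left (hsw _ _) (Commute.mul_left (hsw _ _) (Commute.mul_left (hsw _ _) (hsw _ _)))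
    exact h1
  have hcs : sign c = 1 := by
    simp only [c, Perm.sign_mul]
    rw [sign_swap (hz _ _ (by decide)), sign_swap (hz _ _ (by decide)), sign_swap (hz _ _ (by decide)),
      sign_swap (hz _ _ (by decide))]
    rfl
  let γ : alternatingGroup (Fin n) := ⟨c, Perm.mem_alternatingGroup.2 hcs⟩
  have c0 : c (z 0) = z 1 := by
    simp only [c, Perm.mul_apply]
    rw [swap_apply_of_ne_of_ne (hz 0 4 (by decide)) (hz 0 5 (by decide)),
      swap_apply_of_ne_of_ne (hz 0 2 (by decide)) (hz 0 3 (by decide)),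
      swap_apply_of_ne_of_ne (hz 0 1 (by decide)) (hz 0 2 (by decide)), swap_apply_left]
  have c1 : c (z 1) = z 2 := by
    simp only [c, Perm.mul_apply]
    rw [swap_apply_of_ne_of_ne (hz 1 4 (by decide)) (hz 1 5 (by decide)),
      swap_apply_of_ne_of_ne (hz 1 2 (by decide)) (hz 1 3 (by decide)), swap_apply_left,
      swap_apply_of_ne_of_ne (hz 2 0 (by decide)) (hz 2 1 (by decide))]
  have c2 : c (z 2) = z 3 := by
    simp only [c, Perm.mul_apply]
    rw [swap_apply_of_ne_of_ne (hz 2 4 (by decide)) (hz 2 5 (by decide)), swap_apply_left,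
      swap_apply_of_ne_of_ne (hz 3 1 (by decide)) (hz 3 2 (by decide)),
      swap_apply_of_ne_of_ne (hz 3 0 (by decide)) (hz 3 1 (by decide))]
  have c3 : c (z 3) = z 0 := by
    simp only [c, Perm.mul_apply]
    rw [swap_apply_of_ne_of_ne (hz 3 4 (by decide)) (hz 3 5 (by decide)), swap_apply_right, swap_apply_right,
      swap_apply_right]
  have c4 : c (z 4) = z 5 := by
    simp only [c, Perm.mul_apply]
    rw [swap_apply_left, swap_apply_of_ne_of_ne (hz 5 2 (by decide)) (hz 5 3 (by decide)),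
      swap_apply_of_ne_of_ne (hz 5 1 (by decide)) (hz 5 2 (by decide)),
      swap_apply_of_ne_of_ne (hz 5 0 (by decide)) (hz 5 1 (by decide))]
  have c5 : c (z 5) = z 4 := by
    simp only [c, Perm.mul_apply]
    rw [swap_apply_right, swap_apply_of_ne_of_ne (hz 4 2 (by decide)) (hz 4 3 (by decide)),
      swap_apply_of_ne_of_ne (hz 4 1 (by decide)) (hz 4 2 (by decide)),
      swap_apply_of_ne_of_ne (hz 4 0 (by decide)) (hz 4 1 (by decide))]
  have hc4 : ∀ w, c (c (c (c w))) = w := by
    intro w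
    by_cases h0 : w = z 0
    · rw [h0, c0, c1, c2, c3]
    by_cases h1 : w = z 1
    · rw [h1, c1, c2, c3, c0]
    by_cases h2 : w = z 2
    · rw [h2, c2, c3, c0, c1]
    by_cases h3 : w = z 3
    · rw [h3, c3, c0, c1, c2]
    by_cases h4 : w = z 4
    · rw [h4, c4, c5, c4, c5]
    by_cases h5 : w = z 5
    · rw [h5, c5, c4, c5, c4]
    have hw : c w = w := by
      simp only [c, Perm.mul_apply]
      rw [swap_apply_of_ne_of_ne h4 h5, swap_apply_of_ne_of_ne h2 h3, swap_apply_of_ne_of_ne h1 h2,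
        swap_apply_of_ne_of_ne h0 h1]
    rw [hw, hw, hw, hw]
  have hc44 : c ^ 4 = 1 := by
    apply Perm.ext
    intro w
    rw [pow_succ, pow_succ, pow_succ, pow_one, Perm.mul_apply, Perm.mul_apply, Perm.mul_apply, Perm.one_apply]
    exact hc4 w
  clear_value c
  have hγ4 : γ ^ 4 = 1 := by
    apply Subtype.ext
    rw [Subgroup.coe_pow, Subgroup.coe_one]
    exact hc44
  refine ⟨γ, Subtype.ext hcX, hγ4, fun h2 => ?_⟩
  have h4 : c * c = 1 := congrArg Subtype.val h2
  have h3 : (c * c) (z 0) = z 0 := by rw [h4, Perm.one_apply]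
  rw [Perm.mul_apply, c0, c1] at h3
  exact hz 2 0 (by decide) h3

theorem noCfg_alt (n : ℕ) : NoCfg (alternatingGroup (Fin n)) := by
  classical
  intro D x hc
  obtain ⟨N, hN⟩ := hc.odd
  have h16 := hc.e16.card
  set X : Perm (Fin n) := (x : Perm (Fin n)) with hX
  have hXN : X ^ (2 * N + 1) = 1 := by
    have h1 := pow_orderOf_eq_one x
    rw [hN] at h1
    have h2 := congrArg Subtype.val h1
    simpa using h2
  have dsq : ∀ d ∈ D, d * d = 1 := hc.e16.inv
  have dcomm : ∀ d ∈ D, ∀ e ∈ D, d * e = e * d := by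
    intro d hd e he
    have h1 := dsq _ (D.mul_mem hd he)
    have h2 := dsq d hd
    have h3 := dsq e he
    calc d * e = d * ((d * e) * (d * e)) * e := by rw [h1, mul_one]
      _ = (d * d) * (e * d) * (e * e) := by group
      _ = e * d := by rw [h2, h3, one_mul, mul_one]
  have psq : ∀ d ∈ D, ∀ z, (d : Perm (Fin n)) ((d : Perm (Fin n)) z) = z := fun d hd z =>
    congrArg (fun g : alternatingGroup (Fin n) => (g : Perm (Fin n)) z) (dsq d hd)
  have pcomm : ∀ d ∈ D, ∀ e ∈ D, ∀ z, (d : Perm (Fin n)) ((e : Perm (Fin n)) z) = (e : Perm (Fin n)) ((d : Perm (Fin n)) z) :=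
    fun d hd e he z => congrArg (fun g : alternatingGroup (Fin n) => (g : Perm (Fin n)) z) (dcomm d hd e he)
  have pX : ∀ d ∈ D, ∀ z, (d : Perm (Fin n)) (X z) = X ((d : Perm (Fin n)) z) := fun d hd z =>
    congrArg (fun g : alternatingGroup (Fin n) => (g : Perm (Fin n)) z) (hc.comm d hd)
  -- `N₀ ≤ D`
  have hN0 : N0 D ≤ D := by
    refine hc.rad D le_rfl (N0 D) ?_ ?_ ?_
    · intro g
      refine ⟨1, Subtype.ext (Subtype.ext (Perm.ext fun z => ?_))⟩
      obtain ⟨d, hd, h1⟩ := g.2 z
      have h2 := h1 1 D.one_mem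
      have h3 := h1 d hd
      simp only [Subgroup.coe_one, Perm.one_apply] at h2
      rw [psq d hd] at h3
      show (((g : alternatingGroup (Fin n)) ^ (2 ^ 1) : alternatingGroup (Fin n)) : Perm (Fin n)) z = z
      rw [pow_one, pow_two, Subgroup.coe_mul, Perm.mul_apply, h2, h3]
    · intro g hg
      rw [Subgroup.mem_centralizer_iff]
      intro e he
      apply Subtype.ext
      apply Perm.ext
      intro z
      obtain ⟨d, hd, h1⟩ := hg z
      have h2 := h1 1 D.one_mem
      have h3 := h1 e he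
      simp only [Subgroup.coe_one, Perm.one_apply] at h2
      rw [Subgroup.coe_mul, Subgroup.coe_mul, Perm.mul_apply, Perm.mul_apply, h2, h3, pcomm d hd e he]
    · intro c hcD g hg z
      have hcm : ∀ d ∈ D, ∀ w, (d : Perm (Fin n)) ((c : Perm (Fin n)) w) = (c : Perm (Fin n)) ((d : Perm (Fin n)) w) :=
        fun d hd w => congrArg (fun g : alternatingGroup (Fin n) => (g : Perm (Fin n)) w)
          (Subgroup.mem_centralizer_iff.1 hcD d hd)
      obtain ⟨d, hd, h1⟩ := hg (((c⁻¹ : alternatingGroup (Fin n)) : Perm (Fin n)) z)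
      refine ⟨d, hd, fun e he => ?_⟩
      have h2 := h1 e he
      have hci : ∀ w, (c : Perm (Fin n)) (((c⁻¹ : alternatingGroup (Fin n)) : Perm (Fin n)) w) = w := fun w => by
        rw [Subgroup.coe_inv, aiv]
      have h3 : ((c⁻¹ : alternatingGroup (Fin n)) : Perm (Fin n)) ((e : Perm (Fin n)) z) =
          (e : Perm (Fin n)) (((c⁻¹ : alternatingGroup (Fin n)) : Perm (Fin n)) z) := by
        apply (c : Perm (Fin n)).injective
        rw [hci, ← hcm e he, hci]
      rw [Subgroup.coe_mul, Subgroup.coe_mul, Perm.mul_apply, Perm.mul_apply, h3, h2, ← hcm d hd, ← hcm e he, hci]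
  -- powers of `X`
  have hpow : ∀ z, X (X z) = z → X z = z := by
    intro z h
    have h1 : ∀ k : ℕ, (X ^ (2 * k)) z = z := by
      intro k
      induction k with
      | zero => rfl
      | succ k ih =>
        rw [show 2 * (k + 1) = 2 * k + 1 + 1 by ring, pow_succ, pow_succ, Perm.mul_apply, Perm.mul_apply, h, ih]
    have h2 : (X ^ (2 * N + 1)) z = X ((X ^ (2 * N)) z) := by rw [pow_succ', Perm.mul_apply]
    rw [hXN, Perm.one_apply, h1] at h2
    exact h2.symm
  -- `x` fixes the points moved by `D`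
  have hfix : ∀ z, (∃ d ∈ D, (d : Perm (Fin n)) z ≠ z) → X z = z := by
    rintro ω ⟨d₀, hd₀, hd₀ω⟩
    let O : Set (Fin n) := {z | ∃ e ∈ D, z = (e : Perm (Fin n)) ω}
    by_cases hO : X ω ∈ O
    · obtain ⟨e, he, h1⟩ := hO
      apply hpow
      rw [h1, ← pX e he, h1, psq e he]
    exfalso
    -- the set `O ∪ x O`
    let W : Set (Fin n) := {z | ∃ e ∈ D, z = (e : Perm (Fin n)) ω ∨ z = (e : Perm (Fin n)) (X ω)}
    let V : Set (Fin n) := {z | ∃ e ∈ D, z = (e : Perm (Fin n)) (X ω)}
    have hd0sq : (d₀ : Perm (Fin n)) * (d₀ : Perm (Fin n)) = 1 := congrArg Subtype.val (dsq d₀ hd₀)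
    have hOD : ∀ d ∈ D, ∀ z ∈ O, (d : Perm (Fin n)) z ∈ O := by
      rintro d hd z ⟨e, he, rfl⟩
      exact ⟨d * e, D.mul_mem hd he, rfl⟩
    have hVD : ∀ d ∈ D, ∀ z ∈ V, (d : Perm (Fin n)) z ∈ V := by
      rintro d hd z ⟨e, he, rfl⟩
      exact ⟨d * e, D.mul_mem hd he, rfl⟩
    have hOV : ∀ z ∈ O, z ∉ V := by
      rintro z ⟨e, he, rfl⟩ ⟨f, hf, h⟩
      apply hO
      refine ⟨f * e, D.mul_mem hf he, ?_⟩
      show X ω = (f : Perm (Fin n)) ((e : Perm (Fin n)) ω)
      rw [h, psq f hf]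
    have hOm : ∀ z ∈ O, (d₀ : Perm (Fin n)) z ≠ z := by
      rintro z ⟨e, he, rfl⟩ h
      rw [pcomm d₀ hd₀ e he] at h
      exact hd₀ω ((e : Perm (Fin n)).injective h)
    have hVm : ∀ z ∈ V, (d₀ : Perm (Fin n)) z ≠ z := by
      rintro z ⟨e, he, rfl⟩ h
      rw [pcomm d₀ hd₀ e he, pX d₀ hd₀] at h
      exact hd₀ω (X.injective ((e : Perm (Fin n)).injective h))
    have hXO : ∀ z, X z ∈ V ↔ z ∈ O := by
      intro z
      constructor
      · rintro ⟨e, he, h⟩
        rw [pX e he] at h
        exact ⟨e, he, X.injective h⟩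
      · rintro ⟨e, he, rfl⟩
        exact ⟨e, he, (pX e he ω).symm⟩
    have hUV : ∀ z ∈ O ∪ V, (d₀ : Perm (Fin n)) z ∈ O ∪ V := by
      rintro z (h | h)
      · exact Or.inl (hOD d₀ hd₀ z h)
      · exact Or.inr (hVD d₀ hd₀ z h)
    let u := H731.KKL.res (d₀ : Perm (Fin n)) hd0sq O (hOD d₀ hd₀)
    let v := H731.KKL.res (d₀ : Perm (Fin n)) hd0sq V (hVD d₀ hd₀)
    let g := H731.KKL.res (d₀ : Perm (Fin n)) hd0sq (O ∪ V) hUV
    have hg : g = u * v := H731.KKL.res_union hd0sq (hOD d₀ hd₀) (hVD d₀ hd₀) hOV hUV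
    have hv : v = X * u * X⁻¹ := by
      ext z
      rw [Perm.mul_apply, Perm.mul_apply]
      obtain ⟨w, rfl⟩ := X.surjective z
      rw [iav]
      by_cases h : w ∈ O
      · rw [H731.KKL.res_mem hd0sq (hOD d₀ hd₀) h, H731.KKL.res_mem hd0sq (hVD d₀ hd₀) ((hXO w).2 h), pX d₀ hd₀]
      · rw [H731.KKL.res_not_mem hd0sq (hOD d₀ hd₀) h,
          H731.KKL.res_not_mem hd0sq (hVD d₀ hd₀) (fun h' => h ((hXO w).1 h'))]
    have hgs : sign g = 1 := by
      rw [hg, hv, Perm.sign_mul, Perm.sign_mul, Perm.sign_mul, Perm.sign_inv,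
        mul_comm (sign X) (sign u), mul_assoc (sign u), Int.units_mul_self, mul_one, Int.units_mul_self]
    have hgN : (⟨g, Perm.mem_alternatingGroup.2 hgs⟩ : alternatingGroup (Fin n)) ∈ N0 D := by
      rw [mem_N0]
      intro z
      have hin : ∀ e ∈ D, ((e : Perm (Fin n)) z ∈ O ∪ V ↔ z ∈ O ∪ V) := by
        intro e he
        constructor
        · rintro (h | h)
          · have := hOD e he _ h
            rw [psq e he] at this
            exact Or.inl this
          · have := hVD e he _ h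
            rw [psq e he] at this
            exact Or.inr this
        · rintro (h | h)
          · exact Or.inl (hOD e he _ h)
          · exact Or.inr (hVD e he _ h)
      by_cases hz : z ∈ O ∪ V
      · refine ⟨d₀, hd₀, fun e he => ?_⟩
        exact H731.KKL.res_mem hd0sq hUV ((hin e he).2 hz)
      · refine ⟨1, D.one_mem, fun e he => ?_⟩
        exact H731.KKL.res_not_mem hd0sq hUV (fun h => hz ((hin e he).1 h))
    have hgD := hN0 hgN
    have hgX : ∀ z, g (X z) = X (g z) := fun z => pX _ hgD z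
    -- `x² ω ∈ O ∪ V`
    have hX2 : X (X ω) ∈ O ∪ V := by
      by_contra hcon
      have h1 := hgX (X ω)
      have h2 : g (X (X ω)) = X (X ω) := H731.KKL.res_not_mem hd0sq hUV hcon
      have hV0 : X ω ∈ V := ⟨1, D.one_mem, rfl⟩
      have h3 : g (X ω) = (d₀ : Perm (Fin n)) (X ω) := H731.KKL.res_mem hd0sq hUV (Or.inr hV0)
      rw [h2, h3] at h1
      exact hVm _ hV0 (X.injective h1).symm
    rcases hX2 with ⟨e, he, h⟩ | h
    · have h1 : X (X (X (X ω))) = ω := by
        rw [h, ← pX e he, ← pX e he, h, psq e he]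
      have h2 : X (X ω) = ω := by
        -- `X⁴ ω = ω`
        have h3 : ∀ k : ℕ, (X ^ (4 * k)) ω = ω := by
          intro k
          induction k with
          | zero => rfl
          | succ k ih =>
            rw [show 4 * (k + 1) = 4 * k + 1 + 1 + 1 + 1 by ring, pow_succ, pow_succ, pow_succ, pow_succ,
              Perm.mul_apply, Perm.mul_apply, Perm.mul_apply, Perm.mul_apply, h1, ih]
        have h4 : (X ^ (2 * (2 * N + 1))) ω = X (X ((X ^ (4 * N)) ω)) := by
          rw [show 2 * (2 * N + 1) = 4 * N + 1 + 1 by ring, pow_succ', pow_succ', Perm.mul_apply, Perm.mul_apply]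
        rw [h3, mul_comm, pow_mul, hXN, one_pow, Perm.one_apply] at h4
        exact h4.symm
      apply hO
      rw [hpow ω h2]
      exact ⟨1, D.one_mem, rfl⟩
    · exact hO ((hXO _).1 h)
  -- at least six points are moved
  let p : Fin n → Prop := fun z => ∃ d ∈ D, (d : Perm (Fin n)) z ≠ z
  have hp : ∀ d ∈ D, ∀ z, p ((d : Perm (Fin n)) z) ↔ p z := by
    intro d hd z
    constructor
    · rintro ⟨e, he, h⟩
      refine ⟨e, he, fun h' => h ?_⟩
      rw [pcomm e he d hd, h']
    · rintro ⟨e, he, h⟩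
      refine ⟨e, he, fun h' => h ?_⟩
      rw [pcomm e he d hd] at h'
      exact (d : Perm (Fin n)).injective h'
  let F : D →* Perm {z // p z} :=
    { toFun := fun d => ((d : alternatingGroup (Fin n)) : Perm (Fin n)).subtypePerm (fun z => hp d d.2 z)
      map_one' := by
        ext z
        rfl
      map_mul' := by
        intro a b
        ext z
        rfl }
  have hF : Function.Injective F := by
    intro a b hab
    apply Subtype.ext
    apply Subtype.ext
    apply Perm.ext
    intro z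
    by_cases hz : p z
    · exact congrArg Subtype.val (congrArg (fun f : Perm {z // p z} => f ⟨z, hz⟩) hab)
    · have h1 : ∀ d ∈ D, (d : Perm (Fin n)) z = z := by
        intro d hd
        by_contra h
        exact hz ⟨d, hd, h⟩
      rw [h1 a a.2, h1 b b.2]
  have hcard : 6 ≤ Fintype.card {z // p z} := by
    by_contra hcon
    push Not at hcon
    have h1 := Subgroup.card_dvd_of_injective F hF
    rw [h16, Nat.card_perm, Nat.card_eq_fintype_card] at h1
    have h2 : (Fintype.card {z // p z}).factorial ∣ Nat.factorial 5 := Nat.factorial_dvd_factorial (by omega)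
    have h3 := h1.trans h2
    revert h3
    decide
  obtain ⟨ι⟩ := Function.Embedding.nonempty_of_card_le (α := Fin 6) (β := {z // p z}) (by rw [Fintype.card_fin]; exact hcard)
  let z : Fin 6 → Fin n := fun i => (ι i : Fin n)
  have hz : ∀ i j, i ≠ j → z i ≠ z j := fun i j hij h => hij (ι.injective (Subtype.ext h))
  have hzX : ∀ i, X (z i) = z i := fun i => hfix _ (ι i).2
  obtain ⟨γ, hγX, hγ4, hγ2⟩ := exists_four x z hz hzX
  obtain ⟨k, -, hk⟩ := hc.syl (Subgroup.zpowers γ) (by
    rintro ⟨_, j, rfl⟩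
    refine ⟨2, Subtype.ext ?_⟩
    simp only [Subgroup.coe_pow, Subgroup.coe_one]
    rw [← zpow_natCast, ← zpow_mul, mul_comm, zpow_mul]
    norm_num
    rw [hγ4, one_zpow]) (by
    rintro _ ⟨j, rfl⟩
    have h3 : Commute γ x := hγX
    exact (h3.zpow_left j).eq)
  have h1 := dsq _ (hk γ (Subgroup.mem_zpowers γ))
  apply hγ2
  have h3 : k * γ * k⁻¹ * (k * γ * k⁻¹) = k * (γ * γ) * k⁻¹ := by group
  rw [h3] at h1
  exact conj_eq_one_iff.1 h1

theorem E_alt {n : ℕ} (_hn : 5 ≤ n) : NoCfg (alternatingGroup (Fin n)) := noCfg_alt n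

end Cfsg.Agent.H600.KS
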